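import Mathlib
import Cfsg.Agent.Lib.Char.Gagola
import Cfsg.Agent.Lib.Camina.LC

/-!
# Characters nonzero on two classes with the support the derived subgroup

If `χ ∈ Irr(E)` is nonzero on exactly two classes, with support `N = E'` a `p`-group, then either
`|N| = 2` and `E` is a `2`-group, or the centralisers of the nonidentity elements of `N` equal `N`.
-/

set_option autoImplicit false
set_option linter.style.haveILetI false
set_option linter.unusedSectionVars false
set_option linter.deprecated false

namespace Cfsg.Agent.Lib.Camina.Dichotomy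

open Cfsg Cfsg.Agent.Lib.Char.Gagola
open scoped commutatorElement

universe u

variable {E : Type u} [Group E] [Finite E] {χ : IrrCharacter E} {N : Subgroup E} {p : ℕ}
  [hp : Fact p.Prime]

/-- **The centraliser is the support.** -/
theorem centralizer_le (h : TwoClass χ N) (hNE : N = commutator E) (hNp : IsPGroup p N)
    {x : E} (hx : x ∈ N) (hx1 : x ≠ 1) (h2 : 2 < Nat.card N) :
    Subgroup.centralizer ({x} : Set E) ≤ N := by
  classical
  haveI hNn : N.Normal := h.normal
  set A : Subgroup E := Subgroup.centralizer ({x} : Set E) with hA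
  have hmemA : ∀ a, a ∈ A ↔ a * x = x * a := fun a => Subgroup.mem_centralizer_singleton_iff
  have hNA : N ≤ A := fun n hn => (hmemA n).2 (h.comm n hn x hx)
  have hAp : IsPGroup p A := h.isPGroup_centralizer hNp hx hx1
  have hidx : A.index = Nat.card N - 1 := h.index_centralizer hx hx1
  have hcommN : ∀ a b : E, ⁅a, b⁆ ∈ N := by
    intro a b
    rw [hNE]
    exact Subgroup.commutator_mem_commutator (Subgroup.mem_top a) (Subgroup.mem_top b)
  have hAn : A.Normal := Subgroup.Normal.of_commutator_le (G := E) (hNE ▸ hNA)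
  -- `N` is central in `A`
  have hcenN : ∀ l ∈ N, ∀ a ∈ A, a * l = l * a := by
    intro l hl a ha
    by_cases hl1 : l = 1
    · rw [hl1]; simp
    obtain ⟨c, hc⟩ := isConj_iff.1 (h.all_conj x hx l hl hx1 hl1)
    have h1 : c⁻¹ * a * c ∈ A := by
      have := hAn.conj_mem a ha c⁻¹
      simpa using this
    have h3 := (hmemA _).1 h1
    rw [← hc]
    calc a * (c * x * c⁻¹) = c * ((c⁻¹ * a * c) * x) * c⁻¹ := by group
      _ = c * (x * (c⁻¹ * a * c)) * c⁻¹ := by rw [h3]
      _ = (c * x * c⁻¹) * a := by group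
  -- a prime
  set P := Nat.card N with hP
  obtain ⟨k, hk0, hk⟩ := h.card_eq hNp
  have hP1 : P - 1 ≠ 1 := by omega
  obtain ⟨q, hq, hqd⟩ := Nat.exists_prime_and_dvd hP1
  have hpq : q ≠ p := by
    rintro rfl
    have h3 : q ∣ P := by
      rw [hP, hk]
      exact dvd_pow_self q hk0
    have h4 : q ∣ P - (P - 1) := Nat.dvd_sub h3 hqd
    have h5 : P - (P - 1) = 1 := by omega
    rw [h5] at h4
    exact hq.one_lt.ne' (Nat.dvd_one.1 h4)
  -- an element of order `q`
  haveI hqf : Fact q.Prime := ⟨hq⟩
  have hqE : q ∣ Nat.card E := by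
    refine hqd.trans ?_
    rw [← hidx]
    exact A.index_dvd_card
  obtain ⟨y, hy⟩ := exists_prime_orderOf_dvd_card' q hqE
  have hyq : y ^ q = 1 := by rw [← hy]; exact pow_orderOf_eq_one y
  have hy1 : y ≠ 1 := by
    rintro rfl
    rw [orderOf_one] at hy
    exact hq.one_lt.ne hy
  have hynp : ¬ p ∣ orderOf y := by
    rw [hy]
    intro hd
    exact hpq ((Nat.prime_dvd_prime_iff_eq hp.out hq).1 hd).symm
  -- fixed points on cosets
  have hfix : ∀ a : E, ∃ l ∈ N, y * (a * l) = (a * l) * y := by
    intro a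
    let X : Type u := {w : E // a⁻¹ * w ∈ N}
    have hcl : ∀ w : X, a⁻¹ * (y * w.1 * y⁻¹) ∈ N := by
      intro w
      have h1 : a⁻¹ * (y * w.1 * y⁻¹) = ⁅a⁻¹, y⁆ * (y * (a⁻¹ * w.1) * y⁻¹) := by
        simp only [commutatorElement_def]; group
      rw [h1]
      exact N.mul_mem (hcommN _ _) (hNn.conj_mem _ w.2 y)
    cases nonempty_fintype X
    let F : Function.End X := fun w => ⟨y * w.1 * y⁻¹, hcl w⟩
    have hFpow : ∀ n : ℕ, ∀ w : X, ((F ^ n) w).1 = y ^ n * w.1 * (y ^ n)⁻¹ := by
      intro n
      induction n with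
      | zero =>
        intro w
        rw [pow_zero]
        show w.1 = _
        simp
      | succ n ih =>
        intro w
        rw [pow_succ']
        show y * ((F ^ n) w).1 * y⁻¹ = _
        rw [ih, pow_succ']
        group
    have hF : F ^ q ^ 1 = 1 := by
      funext w
      apply Subtype.ext
      rw [pow_one, hFpow, hyq]
      show _ = w.1
      simp
    have hmod := Equiv.Perm.card_fixedPoints_modEq (f := F) (p := q) (n := 1) hF
    have hXcard : Fintype.card X = P := by
      rw [← Nat.card_eq_fintype_card, hP]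
      exact Nat.card_congr
        { toFun := fun w => ⟨a⁻¹ * w.1, w.2⟩
          invFun := fun u => ⟨a * u.1, by
            show a⁻¹ * (a * u.1) ∈ N
            simp⟩
          left_inv := fun w => by
            apply Subtype.ext
            simp
          right_inv := fun u => by
            apply Subtype.ext
            simp }
    rw [hXcard] at hmod
    have hP1mod : P ≡ 1 [MOD q] := by
      have : P = (P - 1) + 1 := by omega
      rw [this]
      have h0 : P - 1 ≡ 0 [MOD q] := (Nat.modEq_zero_iff_dvd).2 hqd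
      simpa using h0.add_right 1
    have hnon : Fintype.card (Function.fixedPoints F) ≠ 0 := by
      intro h0
      rw [h0] at hmod
      have h3 := hP1mod.symm.trans hmod
      have h4 : q ∣ 1 := (Nat.modEq_zero_iff_dvd).1 h3
      exact hq.one_lt.ne' (Nat.dvd_one.1 h4)
    obtain ⟨⟨w, hw⟩⟩ := Fintype.card_pos_iff.1 (Nat.pos_of_ne_zero hnon)
    have hw' : y * w.1 * y⁻¹ = w.1 := congrArg Subtype.val hw
    refine ⟨a⁻¹ * w.1, w.2, ?_⟩
    have h3 : a * (a⁻¹ * w.1) = w.1 := by group
    rw [h3]
    calc y * w.1 = (y * w.1 * y⁻¹) * y := by group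
      _ = w.1 * y := by rw [hw']
  -- abelian
  have hDab : ∀ u v : E, Commute y u → Commute y v → u * v = v * u := by
    intro u v hu hv
    have h1 : ⁅u, v⁆ ∈ N := hcommN u v
    have h3 : y * ⁅u, v⁆ = ⁅u, v⁆ * y := by
      rw [commutatorElement_def]
      exact (((hu.mul_right hv).mul_right hu.inv_right).mul_right hv.inv_right).eq
    have h4 := h.fix_eq_one hNp hynp hy1 h1 h3
    exact commutatorElement_eq_one_iff_mul_comm.1 h4
  have hAab : ∀ a ∈ A, ∀ b ∈ A, a * b = b * a := by
    intro a ha b hb
    obtain ⟨l₁, hl₁, h1⟩ := hfix a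
    obtain ⟨l₂, hl₂, h3⟩ := hfix b
    have h4 := hDab _ _ h1 h3
    have e1 : a * l₁ * (b * l₂) = a * b * (l₁ * l₂) := by
      have := hcenN l₁ hl₁ b hb
      calc a * l₁ * (b * l₂) = a * (l₁ * b) * l₂ := by group
        _ = a * (b * l₁) * l₂ := by rw [this]
        _ = _ := by group
    have e2 : b * l₂ * (a * l₁) = b * a * (l₁ * l₂) := by
      have h5 := hcenN l₂ hl₂ a ha
      have h6 := h.comm l₁ hl₁ l₂ hl₂
      calc b * l₂ * (a * l₁) = b * (l₂ * a) * l₁ := by group
        _ = b * (a * l₂) * l₁ := by rw [h5]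
        _ = b * a * (l₂ * l₁) := by group
        _ = _ := by rw [h6]
    rw [e1, e2] at h4
    exact mul_right_cancel h4
  -- conclusion
  intro a ha
  by_contra haN
  have hcl : ∀ w, IsConj a w ↔ w ∈ ({w | a⁻¹ * w ∈ N} : Set E) := by
    intro w
    constructor
    · intro hw
      obtain ⟨c, rfl⟩ := isConj_iff.1 hw
      have : a⁻¹ * (c * a * c⁻¹) = ⁅a⁻¹, c⁆ := by
        rw [commutatorElement_def]; group
      show a⁻¹ * (c * a * c⁻¹) ∈ N
      rw [this]
      exact hcommN _ _
    · intro hw
      have := h.isConj_mul haN hw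
      simpa using this
  have h1 := LC.card_centralizer_mul_of_class a _ hcl
  have hS : Nat.card ({w | a⁻¹ * w ∈ N} : Set E) = P := by
    refine Nat.card_congr
      { toFun := fun w => ⟨a⁻¹ * w.1, w.2⟩
        invFun := fun u => ⟨a * u.1, by
          show a⁻¹ * (a * u.1) ∈ N
          simp⟩
        left_inv := fun w => by
          apply Subtype.ext
          simp
        right_inv := fun u => by
          apply Subtype.ext
          simp }
  rw [hS] at h1
  have h3 := (Subgroup.centralizer ({a} : Set E)).card_mul_index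
  have h4 : (Subgroup.centralizer ({a} : Set E)).index = P := by
    apply Nat.eq_of_mul_eq_mul_left (Nat.card_pos (α := Subgroup.centralizer ({a} : Set E)))
    rw [h3, h1]
  have hle : A ≤ Subgroup.centralizer ({a} : Set E) := by
    intro b hb
    exact Subgroup.mem_centralizer_singleton_iff.2 (hAab b hb a ha)
  have h5 := Subgroup.index_dvd_of_le hle
  rw [h4, hidx] at h5
  have h6 := Nat.le_of_dvd (by omega) h5
  omega

/-- **The case of order two.** -/
theorem isPGroup_of_card_two (h : TwoClass χ N) (hNp : IsPGroup p N) {x : E} (hx : x ∈ N)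
    (hx1 : x ≠ 1) (h2 : Nat.card N = 2) : p = 2 ∧ IsPGroup 2 E := by
  have hp2 : p = 2 := by
    obtain ⟨k, hk0, hk⟩ := h.card_eq hNp
    rw [h2] at hk
    have h3 : p ∣ 2 := by
      rw [hk]
      exact dvd_pow_self p hk0
    exact (Nat.prime_dvd_prime_iff_eq hp.out Nat.prime_two).1 h3
  refine ⟨hp2, ?_⟩
  have hidx : (Subgroup.centralizer ({x} : Set E)).index = 1 := by
    rw [h.index_centralizer hx hx1, h2]
  have hAp : IsPGroup p (Subgroup.centralizer ({x} : Set E)) := h.isPGroup_centralizer hNp hx hx1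
  have htop : Subgroup.centralizer ({x} : Set E) = ⊤ := Subgroup.index_eq_one.1 hidx
  rw [htop, hp2] at hAp
  intro g
  obtain ⟨n, hn⟩ := hAp ⟨g, Subgroup.mem_top g⟩
  exact ⟨n, congrArg Subtype.val hn⟩

end Cfsg.Agent.Lib.Camina.Dichotomy
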