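import Mathlib
import Cfsg.Agent.Lib.Camina.Dichotomy
import Cfsg.Agent.Lib.Camina.T1
import Cfsg.Agent.Lib.Camina.EType
import Cfsg.Agent.Lib.Camina.FType
import Cfsg.Agent.Lib.Transfer.Basic
import Cfsg.Agent.Lib.Basic.SylowUtil

/-!
# The group `G` with `G' \ K` a single class and `G / K` carrying a character nonzero on two classes

Common facts.
-/

set_option autoImplicit false
set_option linter.style.haveILetI false
set_option linter.unusedSectionVars false
set_option linter.deprecated false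

namespace Cfsg.Agent.Lib.Camina.Setup

open Cfsg Cfsg.Agent.Lib.Char.Gagola
open scoped commutatorElement

universe u

/-- The standing data. -/
structure Data {G : Type u} [Group G] [Finite G] (K : Subgroup G) [K.Normal] (g : G)
    (χ : IrrCharacter (G ⧸ K)) : Prop where
  hKL : K ≤ commutator G
  hgL : g ∈ commutator G
  hgK : g ∉ K
  hcl : ∀ x ∈ commutator G, x ∉ K → IsConj g x
  two : TwoClass χ ((commutator G).map (QuotientGroup.mk' K))

variable {G : Type u} [Group G] [Finite G] {K : Subgroup G} [hKn : K.Normal] {g : G}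
  {χ : IrrCharacter (G ⧸ K)}

namespace Data

variable (d : Data K g χ)
include d

/-- The image of the derived subgroup is the derived subgroup. -/
theorem map_eq : (commutator G).map (QuotientGroup.mk' K) = commutator (G ⧸ K) := by
  have hctop : (⊤ : Subgroup G).map (QuotientGroup.mk' K) = ⊤ :=
    Subgroup.map_top_of_surjective _ (QuotientGroup.mk'_surjective K)
  rw [commutator_def, commutator_def, Subgroup.map_commutator, hctop]

theorem mk_mem_iff (x : G) : (x : G ⧸ K) ∈ (commutator G).map (QuotientGroup.mk' K) ↔ x ∈ commutator G := by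
  constructor
  · rintro ⟨l, hl, hlx⟩
    have h1 : l⁻¹ * x ∈ K := QuotientGroup.eq.1 hlx
    have h2 := (commutator G).mul_mem hl (d.hKL h1)
    simpa using h2
  · intro hx
    exact ⟨x, hx, rfl⟩

theorem mk_g_ne_one : ((g : G) : G ⧸ K) ≠ 1 := fun h => d.hgK ((QuotientGroup.eq_one_iff g).1 h)

theorem exists_prime' : ∃ p : ℕ, p.Prime ∧ ∀ x ∈ commutator G, x ^ p ∈ K := by
  obtain ⟨p, hp, hpow⟩ := d.two.exists_prime
  refine ⟨p, hp, fun x hx => ?_⟩
  have h1 := hpow (x : G ⧸ K) ⟨x, hx, rfl⟩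
  rw [← QuotientGroup.mk_pow] at h1
  exact (QuotientGroup.eq_one_iff _).1 h1

theorem comm_mod (x y : G) (hx : x ∈ commutator G) (hy : y ∈ commutator G) : ⁅x, y⁆ ∈ K := by
  have h1 := d.two.comm (x : G ⧸ K) ⟨x, hx, rfl⟩ (y : G ⧸ K) ⟨y, hy, rfl⟩
  rw [← QuotientGroup.eq_one_iff]
  have h2 : ((⁅x, y⁆ : G) : G ⧸ K) = ⁅(x : G ⧸ K), (y : G ⧸ K)⁆ :=
    map_commutatorElement (QuotientGroup.mk' K) x y
  rw [h2]
  exact commutatorElement_eq_one_iff_mul_comm.2 h1

variable {p : ℕ} [hp : Fact p.Prime] (hxp : ∀ x ∈ commutator G, x ^ p ∈ K)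
include hxp

theorem isPGroup_map : IsPGroup p ((commutator G).map (QuotientGroup.mk' K)) := by
  apply d.two.isPGroup_of_exists
  rintro _ ⟨x, hx, rfl⟩
  have h1 := hxp x hx
  rw [← map_pow]
  exact (QuotientGroup.eq_one_iff _).2 h1

/-- `g` is a `p`-element. -/
theorem orderOf_g : ∃ j : ℕ, orderOf g = p ^ j := by
  have hpos : 0 < orderOf g := orderOf_pos g
  obtain ⟨k, r, hr, hn⟩ : ∃ k r : ℕ, ¬ p ∣ r ∧ orderOf g = p ^ k * r :=
    ⟨_, _, Nat.not_dvd_ordCompl hp.out hpos.ne',
      (Nat.ordProj_mul_ordCompl_eq_self (orderOf g) p).symm⟩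
  have hr0 : r ≠ 0 := by
    rintro rfl
    simp at hr
  refine ⟨k, ?_⟩
  have hgrK : g ^ r ∉ K := by
    intro h
    have h1 : ((g : G) : G ⧸ K) ^ r = 1 := by
      rw [← QuotientGroup.mk_pow]
      exact (QuotientGroup.eq_one_iff _).2 h
    have h2 : ((g : G) : G ⧸ K) ^ p = 1 := by
      rw [← QuotientGroup.mk_pow]
      exact (QuotientGroup.eq_one_iff _).2 (hxp g d.hgL)
    have h3 : orderOf ((g : G) : G ⧸ K) = p := orderOf_eq_prime h2 d.mk_g_ne_one
    exact hr (h3 ▸ orderOf_dvd_of_pow_eq_one h1)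
  have hc := d.hcl _ ((commutator G).pow_mem d.hgL r) hgrK
  have h1 : orderOf g = orderOf (g ^ r) := by
    obtain ⟨c, hc⟩ := isConj_iff.1 hc
    rw [← hc]
    exact (Cfsg.Agent.Lib.Transfer.Basic.orderOf_conj_eq c g).symm
  rw [h1, orderOf_pow_of_dvd hr0 (Dvd.intro_left _ hn.symm), hn]
  exact Nat.mul_div_cancel _ (Nat.pos_of_ne_zero hr0)

/-- The centraliser of `g` is a `p`-group. -/
theorem isPGroup_centralizer : IsPGroup p (Subgroup.centralizer ({g} : Set G)) := by
  classical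
  set C : Subgroup G := Subgroup.centralizer ({g} : Set G) with hC
  have hcard : ∀ q : ℕ, q.Prime → q ∣ Nat.card C → q = p := by
    intro q hq hqd
    by_contra hqp
    haveI : Fact q.Prime := ⟨hq⟩
    obtain ⟨a, ha⟩ := exists_prime_orderOf_dvd_card' q hqd
    have haq : orderOf (a : G) = q := by rw [← ha, Subgroup.orderOf_coe]
    have hca : (a : G) * g = g * a := Subgroup.mem_centralizer_singleton_iff.1 a.2
    -- in the quotient
    have h1 : ((a : G) : G ⧸ K) ∈ Subgroup.centralizer ({((g : G) : G ⧸ K)} : Set (G ⧸ K)) := by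
      rw [Subgroup.mem_centralizer_singleton_iff, ← QuotientGroup.mk_mul, ← QuotientGroup.mk_mul, hca]
    have h2 := d.two.isPGroup_centralizer (d.isPGroup_map hxp) ⟨g, d.hgL, rfl⟩ d.mk_g_ne_one
    obtain ⟨n, hn⟩ := h2 ⟨_, h1⟩
    have h3 : ((a : G) : G ⧸ K) ^ (p ^ n) = 1 := congrArg Subtype.val hn
    have h4 : ((a : G) : G ⧸ K) ^ q = 1 := by
      rw [← QuotientGroup.mk_pow, ← haq, pow_orderOf_eq_one]
      rfl
    have hcop : Nat.Coprime (p ^ n) q :=
      Nat.Coprime.pow_left n ((Nat.coprime_primes hp.out hq).2 (Ne.symm hqp))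
    have h5 : ((a : G) : G ⧸ K) = 1 := by
      have h6 := pow_gcd_eq_one.2 ⟨h3, h4⟩
      rw [hcop] at h6
      simpa using h6
    have haK : (a : G) ∈ K := (QuotientGroup.eq_one_iff _).1 h5
    have hgaK : g * a ∉ K := by
      intro h
      apply d.hgK
      have := K.mul_mem h (K.inv_mem haK)
      simpa using this
    have hgaL : g * a ∈ commutator G := (commutator G).mul_mem d.hgL (d.hKL haK)
    have hc := d.hcl _ hgaL hgaK
    obtain ⟨j, hj⟩ := d.orderOf_g hxp
    have h7 : orderOf (g * a) = orderOf g := by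
      obtain ⟨c, hc⟩ := isConj_iff.1 hc
      rw [← hc]
      exact Cfsg.Agent.Lib.Transfer.Basic.orderOf_conj_eq c g
    have hcm : Commute g (a : G) := hca.symm
    have h8 : orderOf (g * a) = orderOf g * orderOf (a : G) :=
      hcm.orderOf_mul_eq_mul_orderOf_of_coprime (by
        rw [hj, haq]
        exact Nat.Coprime.pow_left j ((Nat.coprime_primes hp.out hq).2 (Ne.symm hqp)))
    rw [h7, haq] at h8
    have h9 : 0 < orderOf g := orderOf_pos g
    have h10 : q = 1 := by
      have : orderOf g * 1 = orderOf g * q := by rw [mul_one]; exact h8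
      exact (Nat.eq_of_mul_eq_mul_left h9 this).symm
    exact hq.one_lt.ne' h10
  rw [IsPGroup.iff_card]
  exact ⟨_, Nat.eq_prime_pow_of_unique_prime_dvd Nat.card_pos.ne' (fun {q} hq hqd => hcard q hq hqd)⟩

/-- A `p`-element of a `p'`-subgroup is trivial. -/
theorem eq_one_of_mem_of_pow {N : Subgroup G} (hN : (Nat.card N).Coprime p) {v : G} (hv : v ∈ N) {n : ℕ}
    (hvn : v ^ (p ^ n) = 1) : v = 1 := by
  have h1 : v ^ Nat.card N = 1 := by
    have := pow_card_eq_one' (G := N) (x := ⟨v, hv⟩)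
    exact congrArg Subtype.val this
  have h2 := pow_gcd_eq_one.2 ⟨h1, hvn⟩
  have hcop : Nat.Coprime (Nat.card N) (p ^ n) := Nat.Coprime.pow_right n hN
  rw [hcop] at h2
  simpa using h2

/-- `p'`-subgroups meet the centraliser of `g` trivially. -/
theorem fix_g {N : Subgroup G} (hN : (Nat.card N).Coprime p) {v : G} (hv : v ∈ N) (hc : v * g = g * v) :
    v = 1 := by
  obtain ⟨n, hn⟩ := d.isPGroup_centralizer hxp ⟨v, Subgroup.mem_centralizer_singleton_iff.2 hc⟩
  exact d.eq_one_of_mem_of_pow hxp hN hv (congrArg Subtype.val hn)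

/-- `p'`-subgroups meet the centralisers of elements of `G' \ K` trivially. -/
theorem fix_x {N : Subgroup G} [hNn : N.Normal] (hN : (Nat.card N).Coprime p) {x : G}
    (hx : x ∈ commutator G) (hxK : x ∉ K) {v : G} (hv : v ∈ N) (hc : v * x = x * v) : v = 1 := by
  obtain ⟨c, rfl⟩ := isConj_iff.1 (d.hcl x hx hxK)
  have h1 : c⁻¹ * v * c ∈ N := by
    have := hNn.conj_mem v hv c⁻¹
    simpa using this
  have h2 : (c⁻¹ * v * c) * g = g * (c⁻¹ * v * c) := by
    have h3 : c⁻¹ * (v * (c * g * c⁻¹)) * c = c⁻¹ * ((c * g * c⁻¹) * v) * c := by rw [hc]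
    calc (c⁻¹ * v * c) * g = c⁻¹ * (v * (c * g * c⁻¹)) * c := by group
      _ = c⁻¹ * ((c * g * c⁻¹) * v) * c := h3
      _ = g * (c⁻¹ * v * c) := by group
  have h4 := d.fix_g hxp hN h1 h2
  have h5 : v = c * (c⁻¹ * v * c) * c⁻¹ := by group
  rw [h5, h4]
  group

/-- A normal subgroup of order prime to `p` inside `G'` lies in `K`. -/
theorem le_K {N : Subgroup G} (hN : (Nat.card N).Coprime p) (hNL : N ≤ commutator G) : N ≤ K := by
  intro v hv
  rw [← QuotientGroup.eq_one_iff]
  obtain ⟨n, hn⟩ := d.isPGroup_map hxp ⟨(v : G ⧸ K), v, hNL hv, rfl⟩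
  have h1 : ((v : G) : G ⧸ K) ^ (p ^ n) = 1 := congrArg Subtype.val hn
  have h2 : ((v : G) : G ⧸ K) ^ Nat.card N = 1 := by
    have := pow_card_eq_one' (G := N) (x := ⟨v, hv⟩)
    have h3 : v ^ Nat.card N = 1 := congrArg Subtype.val this
    rw [← QuotientGroup.mk_pow, h3]
    rfl
  have h4 := pow_gcd_eq_one.2 ⟨h2, h1⟩
  have hcop : Nat.Coprime (Nat.card N) (p ^ n) := Nat.Coprime.pow_right n hN
  rw [hcop] at h4
  simpa using h4

end Data

end Cfsg.Agent.Lib.Camina.Setup
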