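import Mathlib
import Cfsg.Agent.Lib.Camina.Data

/-!
# The case `|G' : K| = 2`
-/

set_option autoImplicit false
set_option linter.style.haveILetI false
set_option linter.unusedSectionVars false
set_option linter.deprecated false

namespace Cfsg.Agent.Lib.Camina.ECase

open Cfsg Cfsg.Agent.Lib.Char.Gagola Cfsg.Agent.Lib.Camina.Setup
open scoped commutatorElement

universe u

variable {G : Type u} [Group G] [Finite G] {K : Subgroup G} [hKn : K.Normal] {g : G}
  {χ : IrrCharacter (G ⧸ K)}

/-- The case `|G' : K| = 2`. -/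
theorem solvable_of_card_two (d : Data K g χ)
    (hcard : Nat.card ((commutator G).map (QuotientGroup.mk' K)) = 2) : Group.IsSolvable G := by
  classical
  obtain ⟨p, hpp, hxp⟩ := d.exists_prime'
  haveI hpf : Fact p.Prime := ⟨hpp⟩
  have hNp := d.isPGroup_map hxp
  have hgb : ((g : G) : G ⧸ K) ∈ (commutator G).map (QuotientGroup.mk' K) := ⟨g, d.hgL, rfl⟩
  obtain ⟨hp2, hE2⟩ := Dichotomy.isPGroup_of_card_two d.two hNp hgb d.mk_g_ne_one hcard
  subst hp2
  -- the derived subgroup is `K ∪ g K`
  have hinK : ∀ x ∈ commutator G, x ∉ K → g⁻¹ * x ∈ K := by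
    intro x hx hxK
    obtain ⟨y, -, huniq⟩ := (Nat.card_eq_two_iff' (1 : ((commutator G).map (QuotientGroup.mk' K)))).1 hcard
    have h1 := huniq (⟨(x : G ⧸ K), x, hx, rfl⟩ : ((commutator G).map (QuotientGroup.mk' K))) (by
      intro h
      exact hxK ((QuotientGroup.eq_one_iff x).1 (congrArg Subtype.val h)))
    have h2 := huniq (⟨(g : G ⧸ K), hgb⟩ : ((commutator G).map (QuotientGroup.mk' K))) (by
      intro h
      exact d.mk_g_ne_one (congrArg Subtype.val h))
    have h3 : (g : G ⧸ K) = (x : G ⧸ K) := congrArg Subtype.val (h2.trans h1.symm)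
    exact QuotientGroup.eq.1 h3
  have hmulK : ∀ k ∈ K, g * k ∉ K := by
    intro k hk h
    apply d.hgK
    have := K.mul_mem h (K.inv_mem hk)
    simpa using this
  have hc : ∀ k ∈ K, IsConj g (g * k) := fun k hk =>
    d.hcl _ ((commutator G).mul_mem d.hgL (d.hKL hk)) (hmulK k hk)
  have hgord := d.orderOf_g hxp
  -- the normal complement
  obtain ⟨N, hNn, hNc, m, hm⟩ := T1.exists_normal_complement 2 Nat.prime_two K hE2 g hgord hc
  haveI := hNn
  have hNL : N ≤ commutator G := by
    -- `N` maps trivially into the `2`-group `G / K`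
    intro v hv
    rw [← d.mk_mem_iff v]
    obtain ⟨n, hn⟩ := hE2 (v : G ⧸ K)
    have h2 : ((v : G) : G ⧸ K) ^ Nat.card N = 1 := by
      have := pow_card_eq_one' (G := N) (x := ⟨v, hv⟩)
      have h3 : v ^ Nat.card N = 1 := congrArg Subtype.val this
      rw [← QuotientGroup.mk_pow, h3]
      rfl
    have h4 := pow_gcd_eq_one.2 ⟨h2, hn⟩
    have hcop : Nat.Coprime (Nat.card N) (2 ^ n) := Nat.Coprime.pow_right n hNc
    rw [hcop, pow_one] at h4
    rw [h4]
    exact Subgroup.one_mem _
  have hNK : N ≤ K := d.le_K hxp hNc hNL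
  -- the quotient
  have hT : IsPGroup 2 (G ⧸ N) := IsPGroup.of_card (n := m) (by rw [← hm]; rfl)
  let ρ : G →* G ⧸ N := QuotientGroup.mk' N
  have hρs : Function.Surjective ρ := QuotientGroup.mk'_surjective N
  let H : Subgroup (G ⧸ N) := K.map ρ
  haveI hHn : H.Normal := Subgroup.Normal.map (inferInstance) ρ hρs
  have hmem : ∀ x : G, ρ x ∈ H ↔ x ∈ K := by
    intro x
    constructor
    · rintro ⟨k, hk, hkx⟩
      have h1 : k⁻¹ * x ∈ N := QuotientGroup.eq.1 hkx
      have h2 := K.mul_mem hk (hNK h1)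
      simpa using h2
    · intro hx
      exact ⟨x, hx, rfl⟩
  have hL : ∀ x : G, x ∈ K ∨ g⁻¹ * x ∈ K ↔ x ∈ commutator G := by
    intro x
    constructor
    · rintro (h | h)
      · exact d.hKL h
      · have := (commutator G).mul_mem d.hgL (d.hKL h)
        simpa using this
    · intro hx
      by_cases h : x ∈ K
      · exact Or.inl h
      · exact Or.inr (hinK x hx h)
  have hg4 : (ρ g) ^ 4 = 1 := by
    refine EType.pow_four_eq_one hT H (ρ g) ?_ ?_ ?_ ?_ ?_ ?_ ?_
    · exact fun h => d.hgK ((hmem g).1 h)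
    · rw [← map_mul]
      apply (hmem _).2
      have := hxp g d.hgL
      rwa [pow_two] at this
    · intro h hh
      obtain ⟨k, hk, rfl⟩ := hh
      rw [← map_mul]
      exact MonoidHom.map_isConj ρ (hc k hk)
    · intro y
      obtain ⟨y, rfl⟩ := hρs y
      have he : (ρ g)⁻¹ * (ρ y * ρ g * (ρ y)⁻¹) = ρ (g⁻¹ * (y * g * y⁻¹)) := by
        simp only [map_mul, map_inv]
      rw [he]
      apply (hmem _).2
      have h1 : y * g * y⁻¹ ∈ commutator G :=
        (inferInstance : (commutator G).Normal).conj_mem g d.hgL y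
      apply hinK _ h1
      intro h
      apply d.hgK
      have h2 := hKn.conj_mem _ h y⁻¹
      have h3 : y⁻¹ * (y * g * y⁻¹) * y⁻¹⁻¹ = g := by group
      rwa [h3] at h2
    · intro x y
      obtain ⟨x, rfl⟩ := hρs x
      obtain ⟨y, rfl⟩ := hρs y
      rw [← map_commutatorElement]
      have h1 : ⁅x, y⁆ ∈ commutator G :=
        Subgroup.commutator_mem_commutator (Subgroup.mem_top x) (Subgroup.mem_top y)
      rcases (hL _).2 h1 with h | h
      · exact Or.inl ((hmem _).2 h)
      · right
        rw [← map_inv, ← map_mul]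
        exact (hmem _).2 h
    · intro x hx
      obtain ⟨x, rfl⟩ := hρs x
      have hxall : ∀ y, ⁅x, y⁆ ∈ K := by
        intro y
        have := hx (ρ y)
        rw [← map_commutatorElement] at this
        exact (hmem _).1 this
      have hxL : x ∈ commutator G := by
        by_contra hxL
        have hxb : ((x : G) : G ⧸ K) ∉ (commutator G).map (QuotientGroup.mk' K) :=
          fun h => hxL ((d.mk_mem_iff x).1 h)
        have h1 := d.two.isConj_mul hxb hgb
        obtain ⟨c, hc'⟩ := isConj_iff.1 h1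
        obtain ⟨c, rfl⟩ := QuotientGroup.mk_surjective c
        -- `⁅c, x⁆ ∈ K`
        have h2 : ⁅c, x⁆ ∈ K := by
          have := hxall c
          have h3 : ⁅c, x⁆ = ⁅x, c⁆⁻¹ := (commutatorElement_inv x c).symm
          rw [h3]
          exact K.inv_mem this
        have h3 : ((⁅c, x⁆ : G) : G ⧸ K) = 1 := (QuotientGroup.eq_one_iff _).2 h2
        have h4 : ((⁅c, x⁆ : G) : G ⧸ K) = ⁅(c : G ⧸ K), (x : G ⧸ K)⁆ :=
          map_commutatorElement (QuotientGroup.mk' K) c x
        rw [h4, commutatorElement_def] at h3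
        have h5 : ((x : G) : G ⧸ K) * (g : G ⧸ K) * ((x : G) : G ⧸ K)⁻¹ = 1 := by
          rw [← h3, hc']
        apply d.mk_g_ne_one
        have h6 : ((g : G) : G ⧸ K) = ((x : G) : G ⧸ K)⁻¹ *
            (((x : G) : G ⧸ K) * (g : G ⧸ K) * ((x : G) : G ⧸ K)⁻¹) * ((x : G) : G ⧸ K) := by group
        rw [h6, h5]
        group
      rcases (hL x).2 hxL with h | h
      · exact Or.inl ((hmem _).2 h)
      · right
        rw [← map_inv, ← map_mul]
        exact (hmem _).2 h
    · by_contra hall
      push Not at hall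
      apply d.hgK
      have hle : commutator G ≤ K := by
        rw [commutator_def, Subgroup.commutator_le]
        intro x _ y _
        have := hall (ρ x) (ρ y)
        rw [← map_commutatorElement] at this
        exact (hmem _).1 this
      exact hle d.hgL
  -- `g ^ 4 = 1`
  have hg4N : g ^ 4 ∈ N := by
    rw [← map_pow] at hg4
    exact (QuotientGroup.eq_one_iff _).1 hg4
  obtain ⟨j, hj⟩ := hgord
  have hg41 : g ^ 4 = 1 := by
    refine d.eq_one_of_mem_of_pow hxp hNc hg4N (n := j) ?_
    rw [← pow_mul, mul_comm, pow_mul, ← hj, pow_orderOf_eq_one, one_pow]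
  -- the automorphism
  let σ : N ≃* N := MulAut.conjNormal g
  have hσv : ∀ v : N, ((σ v : N) : G) = g * v * g⁻¹ := fun v => MulAut.conjNormal_apply g v
  have hσ4 : ∀ v, σ (σ (σ (σ v))) = v := by
    intro v
    apply Subtype.ext
    rw [hσv, hσv, hσv, hσv]
    have : g * (g * (g * (g * (v : G) * g⁻¹) * g⁻¹) * g⁻¹) * g⁻¹ = g ^ 4 * v * (g ^ 4)⁻¹ := by
      simp only [pow_succ, pow_zero, one_mul]
      group
    rw [this, hg41]
    simp
  have hσfix : ∀ v, σ v = v → v = 1 := by
    intro v hv
    have h1 : g * (v : G) * g⁻¹ = v := by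
      rw [← hσv, hv]
    have h2 : (v : G) * g = g * v := by
      calc (v : G) * g = (g * (v : G) * g⁻¹) * g := by rw [h1]
        _ = g * v := by group
    exact Subtype.ext (d.fix_g hxp hNc v.2 h2)
  haveI hNsolv : Group.IsSolvable N := GH4.isSolvable_of_fpf_four σ hσfix hσ4
  haveI hqsolv : Group.IsSolvable (G ⧸ N) := by
    haveI : Fact (Nat.Prime 2) := ⟨Nat.prime_two⟩
    haveI := hT.isNilpotent
    infer_instance
  exact Group.isSolvable_of_ker_le_range N.subtype (QuotientGroup.mk' N) (by
    intro x hx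
    rw [QuotientGroup.ker_mk'] at hx
    exact ⟨⟨x, hx⟩, rfl⟩)

end Cfsg.Agent.Lib.Camina.ECase
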