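import Mathlib
import Cfsg.Agent.Lib.Camina.Data

/-!
# The case `|G' : K| > 2`
-/

set_option autoImplicit false
set_option linter.style.haveILetI false
set_option linter.unusedSectionVars false
set_option linter.deprecated false

namespace Cfsg.Agent.Lib.Camina.FCase

open Cfsg Cfsg.Agent.Lib.Char.Gagola Cfsg.Agent.Lib.Camina.Setup
open scoped commutatorElement

universe u

variable {G : Type u} [Group G] [Finite G] {K : Subgroup G} [hKn : K.Normal] {g : G}
  {χ : IrrCharacter (G ⧸ K)}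

/-- The case `|G' : K| > 2`. -/
theorem solvable_of_card_gt (d : Data K g χ)
    (hcard : 2 < Nat.card ((commutator G).map (QuotientGroup.mk' K))) : Group.IsSolvable G := by
  classical
  obtain ⟨p, hpp, hxp⟩ := d.exists_prime'
  haveI hpf : Fact p.Prime := ⟨hpp⟩
  have hNp := d.isPGroup_map hxp
  have hgb : ((g : G) : G ⧸ K) ∈ (commutator G).map (QuotientGroup.mk' K) := ⟨g, d.hgL, rfl⟩
  have hcenle := Dichotomy.centralizer_le d.two d.map_eq hNp hgb d.mk_g_ne_one hcard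
  set L : Subgroup G := commutator G with hL
  haveI hLn : L.Normal := inferInstance
  have hmulK : ∀ k ∈ K, g * k ∉ K := by
    intro k hk h
    apply d.hgK
    have := K.mul_mem h (K.inv_mem hk)
    simpa using this
  -- conjugation by `L`
  have hcL : ∀ k ∈ K, ∃ c ∈ L, c * g * c⁻¹ = g * k := by
    intro k hk
    obtain ⟨c, hc⟩ := isConj_iff.1 (d.hcl _ (L.mul_mem d.hgL (d.hKL hk)) (hmulK k hk))
    refine ⟨c, ?_, hc⟩
    rw [← d.mk_mem_iff c]
    apply hcenle
    rw [Subgroup.mem_centralizer_singleton_iff]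
    have h1 : ((c * g * c⁻¹ : G) : G ⧸ K) = (g : G ⧸ K) := by
      rw [hc, QuotientGroup.mk_mul, (QuotientGroup.eq_one_iff k).2 hk, mul_one]
    rw [QuotientGroup.mk_mul, QuotientGroup.mk_mul, QuotientGroup.mk_inv] at h1
    calc (c : G ⧸ K) * (g : G ⧸ K) = ((c : G ⧸ K) * (g : G ⧸ K) * (c : G ⧸ K)⁻¹) * (c : G ⧸ K) := by
          group
      _ = (g : G ⧸ K) * (c : G ⧸ K) := by rw [h1]
  -- the normal complement in `L`
  let gA : L := ⟨g, d.hgL⟩
  let KA : Subgroup L := K.subgroupOf L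
  haveI hKAn : KA.Normal := inferInstance
  have hq : IsPGroup p (L ⧸ KA) := by
    intro y
    obtain ⟨x, rfl⟩ := QuotientGroup.mk_surjective y
    refine ⟨1, ?_⟩
    rw [pow_one, ← QuotientGroup.mk_pow, QuotientGroup.eq_one_iff, Subgroup.mem_subgroupOf]
    exact hxp x x.2
  have hcA : ∀ k ∈ KA, IsConj gA (gA * k) := by
    intro k hk
    obtain ⟨c, hcm, hc⟩ := hcL k hk
    apply isConj_iff.2
    refine ⟨⟨c, hcm⟩, Subtype.ext ?_⟩
    exact hc
  have hgA : ∃ j : ℕ, orderOf gA = p ^ j := by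
    obtain ⟨j, hj⟩ := d.orderOf_g hxp
    refine ⟨j, ?_⟩
    rw [← hj]
    exact Subgroup.orderOf_mk g d.hgL
  obtain ⟨N₀, hN₀n, hN₀c, m, hm⟩ := T1.exists_normal_complement p hpp KA hq gA hgA hcA
  haveI := hN₀n
  have hquot : IsPGroup p (L ⧸ N₀) := IsPGroup.of_card (n := m) (by rw [← hm]; rfl)
  -- the subgroup of `G`
  let N : Subgroup G := N₀.map L.subtype
  have hNcard : Nat.card N = Nat.card N₀ := Subgroup.card_map_of_injective (Subgroup.subtype_injective _)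
  have hNc : (Nat.card N).Coprime p := by rw [hNcard]; exact hN₀c
  have hNL : N ≤ L := by
    rintro _ ⟨x, -, rfl⟩
    exact x.2
  have hmemN : ∀ x (hx : x ∈ L), x ∈ N ↔ Nat.Coprime (orderOf x) p := by
    intro x hx
    have h1 := Cfsg.Agent.Lib.Transfer.Basic.mem_iff_coprime_of_normal N₀ hN₀c hquot ⟨x, hx⟩
    have h2 : orderOf (⟨x, hx⟩ : L) = orderOf x := Subgroup.orderOf_mk x hx
    rw [h2] at h1
    rw [← h1]
    constructor
    · rintro ⟨y, hy, rfl⟩
      exact hy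
    · intro h
      exact ⟨⟨x, hx⟩, h, rfl⟩
  have hNn : N.Normal := by
    constructor
    intro x hx c
    have h1 : x ∈ L := hNL hx
    have h2 : c * x * c⁻¹ ∈ L := hLn.conj_mem x h1 c
    rw [hmemN _ h2, Cfsg.Agent.Lib.Transfer.Basic.orderOf_conj_eq]
    exact (hmemN x h1).1 hx
  haveI := hNn
  have hNK : N ≤ K := d.le_K hxp hNc hNL
  -- the Sylow subgroup
  obtain ⟨P₀⟩ : Nonempty (Sylow p L) := inferInstance
  let S : Subgroup G := (P₀ : Subgroup L).map L.subtype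
  have hSL : S ≤ L := by
    rintro _ ⟨x, -, rfl⟩
    exact x.2
  have hSp : IsPGroup p S := (P₀.isPGroup').map _
  have hcomp := Cfsg.Agent.Lib.Transfer.Basic.isComplement'_of_coprime_of_isPGroup P₀ hN₀c hquot
  have hfac : ∀ x ∈ L, ∃ n ∈ N, ∃ s ∈ S, x = n * s := by
    intro x hx
    obtain ⟨⟨n, s⟩, hns, -⟩ := hcomp.existsUnique ⟨x, hx⟩
    refine ⟨n.1.1, ⟨n.1, n.2, rfl⟩, s.1.1, ⟨s.1, s.2, rfl⟩, ?_⟩
    exact (congrArg Subtype.val hns).symm
  have hinter : ∀ x, x ∈ N → x ∈ S → x = 1 := by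
    intro x hxN hxS
    obtain ⟨n, hn⟩ := hSp ⟨x, hxS⟩
    exact d.eq_one_of_mem_of_pow hxp hNc hxN (congrArg Subtype.val hn)
  -- the Camina property in `S`
  have hcamG : ∀ x ∈ S, x ∉ K → ∀ h ∈ S, h ∈ K → ∃ s ∈ S, s * x * s⁻¹ = x * h := by
    intro x hxS hxK h hhS hhK
    obtain ⟨c, rfl⟩ := isConj_iff.1 (d.hcl x (hSL hxS) hxK)
    have hk : c⁻¹ * h * c ∈ K := by
      have := hKn.conj_mem h hhK c⁻¹
      simpa using this
    obtain ⟨w', hw'L, hw'⟩ := hcL _ hk
    have hwL : c * w' * c⁻¹ ∈ L := hLn.conj_mem w' hw'L c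
    have hw : (c * w' * c⁻¹) * (c * g * c⁻¹) * (c * w' * c⁻¹)⁻¹ = (c * g * c⁻¹) * h := by
      calc (c * w' * c⁻¹) * (c * g * c⁻¹) * (c * w' * c⁻¹)⁻¹ = c * (w' * g * w'⁻¹) * c⁻¹ := by group
        _ = c * (g * (c⁻¹ * h * c)) * c⁻¹ := by rw [hw']
        _ = (c * g * c⁻¹) * h := by group
    set x := c * g * c⁻¹ with hx
    obtain ⟨n, hnN, s, hsS, hns⟩ := hfac _ hwL
    rw [hns] at hw
    refine ⟨s, hsS, ?_⟩
    set t := s * x * s⁻¹ with ht
    have htS : t ∈ S := S.mul_mem (S.mul_mem hsS hxS) (S.inv_mem hsS)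
    have h1 : n * t * n⁻¹ = x * h := by
      rw [← hw, ht]
      group
    have h2 : n * (t * n⁻¹ * t⁻¹) = x * h * t⁻¹ := by
      rw [← h1]
      group
    have h3 : n * (t * n⁻¹ * t⁻¹) ∈ N :=
      N.mul_mem hnN (hNn.conj_mem _ (N.inv_mem hnN) t)
    have h4 : x * h * t⁻¹ ∈ S := S.mul_mem (S.mul_mem hxS hhS) (S.inv_mem htS)
    rw [h2] at h3
    have h5 := hinter _ h3 h4
    exact (mul_inv_eq_one.1 h5).symm
  -- an element outside `K`
  obtain ⟨x₀, hx₀S, hx₀K⟩ : ∃ x ∈ S, x ∉ K := by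
    obtain ⟨n, hnN, s, hsS, hns⟩ := hfac g d.hgL
    refine ⟨s, hsS, fun hs => d.hgK ?_⟩
    rw [hns]
    exact K.mul_mem (hNK hnN) hs
  -- the derived subgroup of `S`
  have hcS : ∀ s : S, s ∈ commutator S ↔ (s : G) ∈ K := by
    intro s
    constructor
    · intro hs
      have hle : commutator S ≤ K.subgroupOf S := by
        rw [commutator_def, Subgroup.commutator_le]
        intro a _ b _
        rw [Subgroup.mem_subgroupOf]
        exact d.comm_mod a b (hSL a.2) (hSL b.2)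
      exact hle hs
    · intro hs
      obtain ⟨t, htS, ht⟩ := hcamG x₀ hx₀S hx₀K s s.2 hs
      have h1 : (⟨x₀⁻¹, S.inv_mem hx₀S⟩ : S) * ⟨t, htS⟩ * (⟨x₀⁻¹, S.inv_mem hx₀S⟩ : S)⁻¹ * (⟨t, htS⟩ : S)⁻¹ = s := by
        apply Subtype.ext
        show x₀⁻¹ * t * x₀⁻¹⁻¹ * t⁻¹ = s
        have h2 : x₀⁻¹ * t * x₀⁻¹⁻¹ * t⁻¹ = x₀⁻¹ * (t * x₀ * t⁻¹) := by group
        rw [h2, ht]
        group
      rw [← h1]
      rw [← commutatorElement_def]
      exact Subgroup.commutator_mem_commutator (Subgroup.mem_top _) (Subgroup.mem_top _)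
  -- the action
  let φ : S →* MulAut N := (MulAut.conjNormal (H := N)).comp S.subtype
  have hφ : ∀ (s : S) (v : N), ((φ s v : N) : G) = s * v * (s : G)⁻¹ := fun s v =>
    MulAut.conjNormal_apply (s : G) v
  haveI hNsolv : Group.IsSolvable N := by
    refine FType.solvable_of_action (p := p) hSp ?_ φ ?_ ?_ ?_ ?_ ?_
    · intro hdvd
      have h1 : p ∣ Nat.gcd (Nat.card N) p := Nat.dvd_gcd hdvd dvd_rfl
      rw [hNc] at h1
      exact hpp.one_lt.ne' (Nat.dvd_one.1 h1)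
    · exact ⟨⟨x₀, hx₀S⟩, fun h => hx₀K ((hcS _).1 h)⟩
    · intro x hx v hv
      have hxK : (x : G) ∉ K := fun h => hx ((hcS x).2 h)
      have h1 : (x : G) * v * (x : G)⁻¹ = v := by rw [← hφ, hv]
      have h2 : (v : G) * x = x * v := by
        calc (v : G) * x = ((x : G) * v * (x : G)⁻¹) * x := by rw [h1]
          _ = x * v := by group
      exact Subtype.ext (d.fix_x hxp hNc (hSL x.2) hxK v.2 h2)
    · intro x hx h hh
      have hxK : (x : G) ∉ K := fun h' => hx ((hcS x).2 h')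
      obtain ⟨s, hs, hsx⟩ := hcamG x x.2 hxK h h.2 ((hcS h).1 hh)
      exact ⟨⟨s, hs⟩, Subtype.ext hsx⟩
    · intro x x' hx hx'
      have hxK : (x : G) ∉ K := fun h' => hx ((hcS x).2 h')
      have hxK' : (x' : G) ∉ K := fun h' => hx' ((hcS x').2 h')
      have hc := (d.hcl _ (hSL x.2) hxK).symm.trans (d.hcl _ (hSL x'.2) hxK')
      obtain ⟨c, hc⟩ := isConj_iff.1 hc
      obtain ⟨l, hlL, w₀, hw₀, hlw⟩ := Cfsg.Agent.Lib.Basic.SylowUtil.frattini_argument' (N := L) P₀ c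
      have hw₀' : w₀ ∈ Subgroup.normalizer (S : Set G) := hw₀
      have hfwd : ∀ y ∈ S, (MulAut.conj w₀) y ∈ S := by
        intro y hy
        exact (Subgroup.mem_normalizer_iff.1 hw₀' y).1 hy
      refine ⟨GH4.resEquiv (MulAut.conj w₀) S hfwd, ?_, ?_⟩
      · rw [hcS]
        show (x' : G)⁻¹ * (w₀ * x * w₀⁻¹) ∈ K
        have h1 : w₀ * (x : G) * w₀⁻¹ = l⁻¹ * x' * l := by
          rw [← hc, hlw]
          group
        rw [h1]
        have h2 : (x' : G)⁻¹ * (l⁻¹ * x' * l) = ⁅(x' : G)⁻¹, l⁻¹⁆ := by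
          rw [commutatorElement_def]
          group
        rw [h2]
        exact d.comm_mod _ _ (L.inv_mem (hSL x'.2)) (L.inv_mem hlL)
      · intro y hy
        ext v
        have hv : w₀⁻¹ * (v : G) * w₀ ∈ N := by
          have := hNn.conj_mem _ v.2 w₀⁻¹
          simpa using this
        have h1 : φ y (⟨_, hv⟩ : N) = ⟨_, hv⟩ := by
          rw [hy]
          rfl
        have h2 : (y : G) * (w₀⁻¹ * (v : G) * w₀) * (y : G)⁻¹ = w₀⁻¹ * (v : G) * w₀ := by
          have := congrArg Subtype.val h1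
          rwa [hφ] at this
        show ((φ (GH4.resEquiv (MulAut.conj w₀) S hfwd y) v : N) : G) = v
        rw [hφ]
        show (w₀ * y * w₀⁻¹) * (v : G) * (w₀ * y * w₀⁻¹)⁻¹ = v
        calc (w₀ * y * w₀⁻¹) * (v : G) * (w₀ * y * w₀⁻¹)⁻¹
            = w₀ * ((y : G) * (w₀⁻¹ * (v : G) * w₀) * (y : G)⁻¹) * w₀⁻¹ := by group
          _ = w₀ * (w₀⁻¹ * (v : G) * w₀) * w₀⁻¹ := by rw [h2]
          _ = v := by group
    · intro x
      rw [hcS]
      exact hxp _ (hSL x.2)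
  -- conclusion
  have hN₀solv : Group.IsSolvable N₀ := by
    let e : N₀ ≃* N := Subgroup.equivMapOfInjective N₀ L.subtype (Subgroup.subtype_injective _)
    exact Group.isSolvable_of_surjective (f := e.symm.toMonoidHom) e.symm.surjective
  haveI hqsolv : Group.IsSolvable (L ⧸ N₀) := by
    haveI := hquot.isNilpotent
    infer_instance
  haveI hLsolv : Group.IsSolvable L :=
    Group.isSolvable_of_ker_le_range N₀.subtype (QuotientGroup.mk' N₀) (by
      intro x hx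
      rw [QuotientGroup.ker_mk'] at hx
      exact ⟨⟨x, hx⟩, rfl⟩)
  haveI hGqsolv : Group.IsSolvable (G ⧸ L) :=
    inferInstanceAs (Group.IsSolvable (Abelianization G))
  exact Group.isSolvable_of_ker_le_range L.subtype (QuotientGroup.mk' L) (by
    intro x hx
    rw [QuotientGroup.ker_mk'] at hx
    exact ⟨⟨x, hx⟩, rfl⟩)

end Cfsg.Agent.Lib.Camina.FCase
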