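import Mathlib
import Cfsg.Prelude.Def_Blocks
import Cfsg.Agent.Lib.Char.CompleteCor
import Cfsg.Agent.Lib.Char.Complete
import Cfsg.Agent.Lib.Char.LinearChars
import Cfsg.Agent.Lib.Char.PDerived
import Cfsg.Agent.Lib.Char.Values
import Cfsg.Agent.Lib.Char.Ortho
import Cfsg.Agent.Lib.Transfer.Basic

/-!
# One nonlinear character nonvanishing at `g`: orthogonality
-/

set_option autoImplicit false
set_option linter.style.haveILetI false
set_option linter.unusedSectionVars false
set_option linter.deprecated false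

namespace Cfsg.Agent.Lib.Camina.Orth

open Cfsg Cfsg.Agent.Lib.Char Cfsg.Agent.Lib.Char.CompleteCor
open scoped ComplexConjugate Classical

universe u

variable {G : Type u} [Group G] [Finite G]

/-- Sums of linear characters at one point. -/
theorem sum_hom [Fintype (G →* ℂˣ)] (z : G) :
    ∑ l : G →* ℂˣ, ((l z : ℂˣ) : ℂ) =
      if z ∈ commutator G then ((commutator G).index : ℂ) else 0 := by
  split_ifs with hz
  · have h1 : ∀ l : G →* ℂˣ, l z = 1 := fun l =>
      Cfsg.Agent.Lib.Transfer.Basic.commutator_le_ker_of_comm l hz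
    simp only [h1, Units.val_one, Finset.sum_const, Finset.card_univ, nsmul_eq_mul, mul_one]
    have h2 : Fintype.card (G →* ℂˣ) = (commutator G).index := by
      rw [← LinearChars.card_linear_chars, ← Nat.card_eq_fintype_card]
      exact (Nat.card_congr LinearChars.linearEquivHom).symm
    rw [h2]
  · obtain ⟨μ, hμ⟩ := PDerived.exists_lin_ne_one hz
    set S := ∑ l : G →* ℂˣ, ((l z : ℂˣ) : ℂ) with hS
    have h1 : ((μ z : ℂˣ) : ℂ) * S = S := by
      rw [hS, Finset.mul_sum]
      have := Equiv.sum_comp (Equiv.mulLeft μ) (fun l : G →* ℂˣ => ((l z : ℂˣ) : ℂ))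
      rw [← this]
      refine Finset.sum_congr rfl (fun l _ => ?_)
      simp
    have h2 : (((μ z : ℂˣ) : ℂ) - 1) * S = 0 := by
      rw [sub_mul, h1, one_mul, sub_self]
    have h3 : ((μ z : ℂˣ) : ℂ) - 1 ≠ 0 := by
      intro h
      apply hμ
      apply Units.ext
      simpa [sub_eq_zero] using h
    exact (mul_eq_zero.1 h2).resolve_left h3

/-- The sum over the linear characters. -/
theorem sum_linear [Fintype (IrrCharacter G)] (x y : G) :
    ∑ χ : IrrCharacter G, (if (χ : G → ℂ) 1 = 1 then (χ : G → ℂ) x * conj ((χ : G → ℂ) y) else 0) =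
      if x * y⁻¹ ∈ commutator G then ((commutator G).index : ℂ) else 0 := by
  letI : Fintype (G →* ℂˣ) := Fintype.ofEquiv _ LinearChars.linearEquivHom
  rw [← sum_hom]
  rw [← Finset.sum_filter]
  have h1 : ∑ χ ∈ Finset.univ.filter (fun χ : IrrCharacter G => (χ : G → ℂ) 1 = 1),
      (χ : G → ℂ) x * conj ((χ : G → ℂ) y) =
      ∑ χ : {χ : IrrCharacter G // (χ : G → ℂ) 1 = 1},
        ((χ.1 : IrrCharacter G) : G → ℂ) x * conj (((χ.1 : IrrCharacter G) : G → ℂ) y) := by
    rw [Finset.sum_subtype (p := fun χ : IrrCharacter G => (χ : G → ℂ) 1 = 1)]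
    simp
  rw [h1, ← Equiv.sum_comp (LinearChars.linearEquivHom (G := G)).symm]
  refine Finset.sum_congr rfl (fun l _ => ?_)
  show ((l x : ℂˣ) : ℂ) * conj ((l y : ℂˣ) : ℂ) = ((l (x * y⁻¹) : ℂˣ) : ℂ)
  have h2 : conj ((l y : ℂˣ) : ℂ) = ((l y⁻¹ : ℂˣ) : ℂ) := by
    have hc : IsCharacter G (fun g => ((l g : ℂˣ) : ℂ)) :=
      Values.IsIrrCharacter.isCharacter (LinearChars.isIrr_of_hom l)
    exact (Values.IsCharacter.inv hc y).symm
  rw [h2, map_mul]
  simp

/-- A character of degree one. -/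
theorem charDegree_ne_one_iff {χ : G → ℂ} (hχ : IsIrrCharacter G χ) :
    charDegree χ ≠ 1 ↔ χ 1 ≠ 1 := by
  have h := Values.IsCharacter.charDegree_cast (Values.IsIrrCharacter.isCharacter hχ)
  rw [← h]
  constructor
  · intro h1 h2
    exact h1 (by exact_mod_cast h2)
  · intro h1 h2
    apply h1
    rw [h2]
    simp

section Main

variable (g : G) (χ : IrrCharacter G) (hχ1 : (χ : G → ℂ) 1 ≠ 1) (hχg : (χ : G → ℂ) g ≠ 0)
  (hother : ∀ ψ : IrrCharacter G, (ψ : G → ℂ) 1 ≠ 1 → ψ ≠ χ → (ψ : G → ℂ) g = 0)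

include hχ1 hother in
/-- The key column relation. -/
theorem column (x : G) (hx : ¬ IsConj x g) :
    (if x * g⁻¹ ∈ commutator G then ((commutator G).index : ℂ) else 0) +
      (χ : G → ℂ) x * conj ((χ : G → ℂ) g) = 0 := by
  cases nonempty_fintype G
  cases nonempty_fintype (IrrCharacter G)
  have h1 := column_orth_not_conj hx
  rw [← sum_linear x g]
  have h2 : ∑ ψ : IrrCharacter G, (ψ : G → ℂ) x * conj ((ψ : G → ℂ) g) =
      ∑ ψ : IrrCharacter G, (if (ψ : G → ℂ) 1 = 1 then (ψ : G → ℂ) x * conj ((ψ : G → ℂ) g) else 0) +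
      ∑ ψ : IrrCharacter G, (if (ψ : G → ℂ) 1 = 1 then 0 else (ψ : G → ℂ) x * conj ((ψ : G → ℂ) g)) := by
    rw [← Finset.sum_add_distrib]
    refine Finset.sum_congr rfl (fun ψ _ => ?_)
    split_ifs <;> simp
  have h3 : ∑ ψ : IrrCharacter G, (if (ψ : G → ℂ) 1 = 1 then 0 else (ψ : G → ℂ) x * conj ((ψ : G → ℂ) g)) =
      (χ : G → ℂ) x * conj ((χ : G → ℂ) g) := by
    rw [Finset.sum_eq_single χ]
    · rw [if_neg hχ1]
    · intro ψ _ hψ
      split_ifs with h
      · rfl
      · rw [hother ψ h hψ]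
        simp
    · intro h
      exact absurd (Finset.mem_univ _) h
  rw [← h3, ← h2]
  exact h1

theorem apply_one_ne_zero : (χ : G → ℂ) 1 ≠ 0 := Ortho.irr_apply_one_ne_zero χ.2

theorem index_ne_zero' : ((commutator G).index : ℂ) ≠ 0 := by
  exact_mod_cast (Subgroup.index_ne_zero_of_finite : (commutator G).index ≠ 0)

theorem conj_apply_one' : conj ((χ : G → ℂ) 1) = (χ : G → ℂ) 1 := by
  cases nonempty_fintype G
  exact conj_apply_one χ.2

include hχ1 hχg hother in
theorem g_mem (hg1 : g ≠ 1) : g ∈ commutator G := by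
  have hnc : ¬ IsConj (1 : G) g := fun h => hg1 (isConj_one_right.1 h)
  have h1 := column g χ hχ1 hother 1 hnc
  by_contra hg
  have h2 : (1 : G) * g⁻¹ ∉ commutator G := by
    intro h
    apply hg
    have := (commutator G).inv_mem h
    simpa using this
  rw [if_neg h2, zero_add] at h1
  rcases mul_eq_zero.1 h1 with h3 | h3
  · exact apply_one_ne_zero χ h3
  · exact hχg ((map_eq_zero _).1 h3)

include hχ1 hχg hother in
/-- The value at `g`. -/
theorem value_g (hg1 : g ≠ 1) :
    (χ : G → ℂ) g = -(((commutator G).index : ℂ) / (χ : G → ℂ) 1) := by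
  have hnc : ¬ IsConj (1 : G) g := fun h => hg1 (isConj_one_right.1 h)
  have h1 := column g χ hχ1 hother 1 hnc
  have hgm := g_mem g χ hχ1 hχg hother hg1
  have h2 : (1 : G) * g⁻¹ ∈ commutator G := by
    have := (commutator G).inv_mem hgm
    simpa using this
  rw [if_pos h2] at h1
  have he := apply_one_ne_zero χ
  have h3 : conj ((χ : G → ℂ) g) = -(((commutator G).index : ℂ) / (χ : G → ℂ) 1) := by
    field_simp
    linear_combination h1
  have h4 := congrArg conj h3
  rw [Complex.conj_conj] at h4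
  rw [h4, map_neg, map_div₀, conj_apply_one', Complex.conj_natCast]

include hχ1 hχg hother in
/-- Vanishing outside the derived subgroup. -/
theorem vanish_off (hg1 : g ≠ 1) (x : G) (hx : x ∉ commutator G) : (χ : G → ℂ) x = 0 := by
  have hgm := g_mem g χ hχ1 hχg hother hg1
  have hnc : ¬ IsConj x g := by
    intro h
    obtain ⟨c, hc⟩ := isConj_iff.1 h.symm
    apply hx
    rw [← hc]
    exact (inferInstance : (commutator G).Normal).conj_mem g hgm c
  have h1 := column g χ hχ1 hother x hnc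
  have h2 : x * g⁻¹ ∉ commutator G := by
    intro h
    apply hx
    have := (commutator G).mul_mem h hgm
    simpa using this
  rw [if_neg h2, zero_add] at h1
  rcases mul_eq_zero.1 h1 with h3 | h3
  · exact h3
  · exact absurd ((map_eq_zero _).1 h3) hχg

include hχ1 hχg hother in
/-- The value on the derived subgroup off the class of `g`. -/
theorem value_on (hg1 : g ≠ 1) (x : G) (hx : x ∈ commutator G) (hc : ¬ IsConj g x) :
    (χ : G → ℂ) x = (χ : G → ℂ) 1 := by
  have hgm := g_mem g χ hχ1 hχg hother hg1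
  have h1 := column g χ hχ1 hother x (fun h => hc h.symm)
  have h2 : x * g⁻¹ ∈ commutator G := (commutator G).mul_mem hx ((commutator G).inv_mem hgm)
  rw [if_pos h2] at h1
  have hv := value_g g χ hχ1 hχg hother hg1
  rw [hv, map_neg, map_div₀, conj_apply_one', Complex.conj_natCast] at h1
  have he := apply_one_ne_zero χ
  have hm := index_ne_zero' (G := G)
  field_simp at h1
  have h3 : ((commutator G).index : ℂ) * ((χ : G → ℂ) 1 - (χ : G → ℂ) x) = 0 := by
    linear_combination h1
  rcases mul_eq_zero.1 h3 with h4 | h4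
  · exact absurd h4 hm
  · exact (sub_eq_zero.1 h4).symm

include hχ1 hχg hother in
/-- The derived subgroup is the kernel and the class. -/
theorem derived_eq (hg1 : g ≠ 1) :
    ((commutator G : Subgroup G) : Set G) =
      {x : G | (χ : G → ℂ) x = (χ : G → ℂ) 1} ∪ {h : G | IsConj g h} := by
  have hgm := g_mem g χ hχ1 hχg hother hg1
  ext x
  constructor
  · intro hx
    by_cases hc : IsConj g x
    · exact Or.inr hc
    · exact Or.inl (value_on g χ hχ1 hχg hother hg1 x hx hc)
  · rintro (hx | hx)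
    · by_contra h
      have h0 := vanish_off g χ hχ1 hχg hother hg1 x h
      have hx' : (χ : G → ℂ) x = (χ : G → ℂ) 1 := hx
      rw [h0] at hx'
      exact apply_one_ne_zero χ hx'.symm
    · obtain ⟨c, rfl⟩ := isConj_iff.1 hx
      exact (inferInstance : (commutator G).Normal).conj_mem g hgm c

include hχ1 hχg hother in
/-- `χ` is the only nonlinear character of the quotient by its kernel. -/
theorem unique_nonlinear (hg1 : g ≠ 1) (ψ : IrrCharacter G) (hψ : (ψ : G → ℂ) 1 ≠ 1)
    (hker : ∀ x : G, (χ : G → ℂ) x = (χ : G → ℂ) 1 → (ψ : G → ℂ) x = (ψ : G → ℂ) 1) : ψ = χ := by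
  cases nonempty_fintype G
  by_contra hne
  have h1 := Ortho.classInner_irr_of_ne ψ.2 χ.2 (fun h => hne (Subtype.ext h))
  rw [Complete.classInner_def] at h1
  have hG : (Nat.card G : ℂ)⁻¹ ≠ 0 := inv_ne_zero (by exact_mod_cast Nat.card_pos.ne')
  have h2 := (mul_eq_zero.1 h1).resolve_left hG
  have h3 : ∀ x : G, (ψ : G → ℂ) x * conj ((χ : G → ℂ) x) =
      if (χ : G → ℂ) x = (χ : G → ℂ) 1 then (ψ : G → ℂ) 1 * (χ : G → ℂ) 1 else 0 := by
    intro x
    split_ifs with h
    · rw [hker x h, h, conj_apply_one']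
    · by_cases hx : x ∈ commutator G
      · have hc : IsConj g x := by
          by_contra hc
          exact h (value_on g χ hχ1 hχg hother hg1 x hx hc)
        rw [← irr_apply_of_isConj hc ψ, hother ψ hψ hne, zero_mul]
      · rw [vanish_off g χ hχ1 hχg hother hg1 x hx]
        simp
  simp only [h3] at h2
  rw [← Finset.sum_filter, Finset.sum_const, nsmul_eq_mul] at h2
  have h4 : (0 : ℂ) ≠ ((Finset.univ.filter (fun x : G => (χ : G → ℂ) x = (χ : G → ℂ) 1)).card : ℂ) *
      ((ψ : G → ℂ) 1 * (χ : G → ℂ) 1) := by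
    symm
    apply mul_ne_zero
    · have : 0 < (Finset.univ.filter (fun x : G => (χ : G → ℂ) x = (χ : G → ℂ) 1)).card :=
        Finset.card_pos.2 ⟨1, by simp⟩
      exact_mod_cast this.ne'
    · exact mul_ne_zero (Ortho.irr_apply_one_ne_zero ψ.2) (apply_one_ne_zero χ)
  exact h4 h2.symm

end Main

end Cfsg.Agent.Lib.Camina.Orth
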