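import Mathlib
import Cfsg.Agent.Lib.Camina.Orth
import Cfsg.Agent.Lib.Camina.ECase
import Cfsg.Agent.Lib.Camina.FCase

/-!
# One nonlinear character nonvanishing at `g`: solvability
-/

set_option autoImplicit false
set_option linter.style.haveILetI false
set_option linter.unusedSectionVars false
set_option linter.deprecated false

namespace Cfsg.Agent.Lib.Camina.Main

open Cfsg Cfsg.Agent.Lib.Char Cfsg.Agent.Lib.Char.Gagola Cfsg.Agent.Lib.Camina.Setup
open Cfsg.Agent.Lib.Camina.Orth

universe u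

variable {G : Type u} [Group G] [Finite G]

/-- The kernel of an irreducible character. -/
def kerIrr (χ : IrrCharacter G) : Subgroup G where
  carrier := {x | (χ : G → ℂ) x = (χ : G → ℂ) 1}
  mul_mem' := by
    intro a b ha hb
    show (χ : G → ℂ) (a * b) = _
    rw [irr_mul_of_eq_one χ.2 hb]
    exact ha
  one_mem' := rfl
  inv_mem' := by
    intro a ha
    have := irr_mul_of_eq_one χ.2 (g := a⁻¹) ha
    rw [inv_mul_cancel] at this
    exact this.symm

theorem mem_kerIrr {χ : IrrCharacter G} {x : G} : x ∈ kerIrr χ ↔ (χ : G → ℂ) x = (χ : G → ℂ) 1 :=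
  Iff.rfl

instance kerIrr_normal (χ : IrrCharacter G) : (kerIrr χ).Normal := by
  constructor
  intro n hn g
  rw [mem_kerIrr] at hn ⊢
  rw [CompleteCor.isIrr_classFunction χ.2 n g]
  exact hn

/-- **Solvability.** -/
theorem solvable (g : G) (χ : IrrCharacter G) (hχ1 : (χ : G → ℂ) 1 ≠ 1) (hχg : (χ : G → ℂ) g ≠ 0)
    (hother : ∀ ψ : IrrCharacter G, (ψ : G → ℂ) 1 ≠ 1 → ψ ≠ χ → (ψ : G → ℂ) g = 0) (hg1 : g ≠ 1) :
    Group.IsSolvable G := by
  classical
  cases nonempty_fintype G
  set K : Subgroup G := kerIrr χ with hK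
  have hgL := g_mem g χ hχ1 hχg hother hg1
  have hvan := vanish_off g χ hχ1 hχg hother hg1
  have hval := value_on g χ hχ1 hχg hother hg1
  have he0 : (χ : G → ℂ) 1 ≠ 0 := Ortho.irr_apply_one_ne_zero χ.2
  have hKL : K ≤ commutator G := by
    intro x hx
    by_contra h
    have h1 := hvan x h
    have h2 : (χ : G → ℂ) x = (χ : G → ℂ) 1 := hx
    rw [h1] at h2
    exact he0 h2.symm
  have hgK : g ∉ K := by
    intro h
    have h1 : (χ : G → ℂ) g = (χ : G → ℂ) 1 := h
    rw [value_g g χ hχ1 hχg hother hg1] at h1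
    obtain ⟨n, hn, hn1⟩ := Ortho.irr_degree_pos χ.2
    rw [hn1] at h1
    have hn0 : (n : ℂ) ≠ 0 := by exact_mod_cast hn.ne'
    field_simp at h1
    have h2 : (((n ^ 2 + (commutator G).index : ℕ)) : ℂ) = 0 := by
      push_cast
      linear_combination -h1
    have h3 : n ^ 2 + (commutator G).index = 0 := by exact_mod_cast h2
    have h4 : 0 < n ^ 2 := by positivity
    omega
  have hcl : ∀ x ∈ commutator G, x ∉ K → IsConj g x := by
    intro x hx hxK
    by_contra hc
    exact hxK (hval x hx hc)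
  -- descend
  obtain ⟨χb, hχb, hχbv⟩ := CoprimeLayers.exists_descend (QuotientGroup.mk' K)
    (QuotientGroup.mk'_surjective K) χ.2 (by
      intro z hz
      exact (QuotientGroup.eq_one_iff z).1 hz)
  have hχbv' : ∀ z : G, χb (z : G ⧸ K) = (χ : G → ℂ) z := hχbv
  let χq : IrrCharacter (G ⧸ K) := ⟨χb, hχb⟩
  have hmk : ∀ x : G, (x : G ⧸ K) ∈ (commutator G).map (QuotientGroup.mk' K) ↔ x ∈ commutator G := by
    intro x
    constructor
    · rintro ⟨l, hl, hlx⟩
      have h1 : l⁻¹ * x ∈ K := QuotientGroup.eq.1 hlx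
      have h2 := (commutator G).mul_mem hl (hKL h1)
      simpa using h2
    · intro hx
      exact ⟨x, hx, rfl⟩
  have htwo : TwoClass χq ((commutator G).map (QuotientGroup.mk' K)) := by
    refine ⟨Subgroup.Normal.map inferInstance _ (QuotientGroup.mk'_surjective K), ?_, ?_, ?_, ?_⟩
    · intro h
      have h1 : (g : G ⧸ K) ∈ (commutator G).map (QuotientGroup.mk' K) := (hmk g).2 hgL
      rw [h, Subgroup.mem_bot] at h1
      exact hgK ((QuotientGroup.eq_one_iff g).1 h1)
    · intro z
      obtain ⟨x, rfl⟩ := QuotientGroup.mk_surjective z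
      rw [hmk x]
      show _ ↔ χb (x : G ⧸ K) ≠ 0
      rw [hχbv']
      constructor
      · intro hx
        by_cases hxK : x ∈ K
        · have h1 : (χ : G → ℂ) x = (χ : G → ℂ) 1 := hxK
          rw [h1]
          exact he0
        · rw [← CompleteCor.irr_apply_of_isConj (hcl x hx hxK) χ]
          exact hχg
      · intro h
        by_contra hx
        exact h (hvan x hx)
    · intro ψb hψb n hn
      obtain ⟨l, hl, rfl⟩ := hn
      let ψ : IrrCharacter G := PDerived.liftIrr K ψb
      have hψv : ∀ x : G, (ψ : G → ℂ) x = (ψb : G ⧸ K → ℂ) (x : G ⧸ K) := fun x => rfl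
      have hψ1 : (ψ : G → ℂ) 1 = 1 := by
        by_contra hne
        have h1 := unique_nonlinear g χ hχ1 hχg hother hg1 ψ hne (by
          intro x hx
          have hxK : x ∈ K := hx
          rw [hψv, hψv, (QuotientGroup.eq_one_iff x).2 hxK]
          rfl)
        apply hψb
        apply Subtype.ext
        funext z
        obtain ⟨x, rfl⟩ := QuotientGroup.mk_surjective z
        show (ψb : G ⧸ K → ℂ) (x : G ⧸ K) = χb (x : G ⧸ K)
        rw [hχbv', ← hψv, h1]
      obtain ⟨φ, hφ⟩ := LinearChars.exists_hom_of_isCharacter_one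
        (Values.IsIrrCharacter.isCharacter ψ.2) hψ1
      have h2 : (ψ : G → ℂ) l = 1 := by
        rw [hφ]
        show ((φ l : ℂˣ) : ℂ) = 1
        rw [Cfsg.Agent.Lib.Transfer.Basic.commutator_le_ker_of_comm φ hl]
        rfl
      have h3 : (ψ : G → ℂ) l = (ψ : G → ℂ) 1 := by rw [h2, hψ1]
      exact h3
    · intro x hx y hy hx1 hy1
      obtain ⟨x, hxL, rfl⟩ := hx
      obtain ⟨y, hyL, rfl⟩ := hy
      have hxK : x ∉ K := fun h => hx1 ((QuotientGroup.eq_one_iff x).2 h)
      have hyK : y ∉ K := fun h => hy1 ((QuotientGroup.eq_one_iff y).2 h)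
      exact MonoidHom.map_isConj _ ((hcl x hxL hxK).symm.trans (hcl y hyL hyK))
  have d : Data K g χq := ⟨hKL, hgL, hgK, hcl, htwo⟩
  -- the two cases
  have hne1 : Nat.card ((commutator G).map (QuotientGroup.mk' K)) ≠ 1 := by
    intro h
    exact htwo.ne_bot ((Subgroup.eq_bot_iff_card _).2 h)
  have hpos : 0 < Nat.card ((commutator G).map (QuotientGroup.mk' K)) := Nat.card_pos
  by_cases h2 : Nat.card ((commutator G).map (QuotientGroup.mk' K)) = 2
  · exact ECase.solvable_of_card_two d h2
  · exact FCase.solvable_of_card_gt d (by omega)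

end Cfsg.Agent.Lib.Camina.Main
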